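import Mathlib
import Cfsg.Agent.Lib.Helper70.Alp.S3782Defs
import Cfsg.Agent.Lib.Helper63.HallHigman
import Cfsg.Agent.S3779

/-!
# S3782, package (F) `LemKer` (helper74)

`O_{p'}(G)` is nilpotent of class at most `h(p)` when `G` has an automorphism `α` with
`α ^ p = 1` whose fixed points form a group of order `p ^ n`.
-/

set_option autoImplicit false

namespace Cfsg.Agent.Lib.Helper74.Alp

open Cfsg.Agent.Lib.Helper70.Alp

universe u

theorem lemKer : Cfsg.Agent.Lib.Helper70.Alp.LemKer.{u} := by
  intro p _ G _ _ α n hα hfix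
  have hp : p.Prime := Fact.out
  haveI : (Cfsg.pPrimeCore p G).Characteristic :=
    Cfsg.Agent.Lib.Helper63.pPrimeCore_characteristic' p G
  have hcop : (Nat.card (Cfsg.pPrimeCore p G)).Coprime p :=
    Cfsg.Agent.Lib.Helper63.card_pPrimeCore_coprime' p G
  have hmap := map_eq_of_char α (Cfsg.pPrimeCore p G)
  have hβp : (resAut α (Cfsg.pPrimeCore p G) hmap) ^ p = 1 := resAut_pow_eq_one α _ hmap hα
  -- the subgroup of fixed points of `α`
  let F : Subgroup G :=
    { carrier := {g | α g = g}
      mul_mem' := fun {a b} ha hb => by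
        show α (a * b) = a * b
        rw [map_mul, show α a = a from ha, show α b = b from hb]
      one_mem' := map_one α
      inv_mem' := fun {a} ha => by
        show α a⁻¹ = a⁻¹
        rw [map_inv, show α a = a from ha] }
  have hF : Nat.card F = p ^ n := hfix
  -- the restriction is fixed-point-free
  have hfpf : ∀ x : ↥(Cfsg.pPrimeCore p G),
      resAut α (Cfsg.pPrimeCore p G) hmap x = x → x = 1 := by
    intro x hx
    have hxF : (x : G) ∈ F := by
      show α (x : G) = (x : G)
      have := congrArg Subtype.val hx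
      rwa [resAut_apply] at this
    have h1 : orderOf (x : G) ∣ p ^ n := by
      rw [← hF]
      exact Subgroup.orderOf_dvd_natCard F hxF
    have h2 : orderOf (x : G) ∣ Nat.card (Cfsg.pPrimeCore p G) := by
      rw [Subgroup.orderOf_coe]
      exact orderOf_dvd_natCard x
    have h3 : orderOf (x : G) = 1 :=
      Nat.eq_one_of_dvd_coprimes (Nat.Coprime.pow_right n hcop) h2 h1
    have h4 : (x : G) = 1 := orderOf_eq_one_iff.mp h3
    exact Subtype.ext h4
  by_cases hβ1 : resAut α (Cfsg.pPrimeCore p G) hmap = 1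
  · -- then `O_{p'}(G)` is trivial
    rw [eq_bot_iff]
    intro x _
    have hx1 : x = 1 := hfpf x (by rw [hβ1]; rfl)
    rw [hx1]
    exact Subgroup.one_mem _
  · have hord : orderOf (resAut α (Cfsg.pPrimeCore p G) hmap) = p := orderOf_eq_prime hβp hβ1
    have h := (Cfsg.Agent.S3779.result hp (resAut α (Cfsg.pPrimeCore p G) hmap) hord hfpf).2.2
    rw [eq_bot_iff]
    have hle := Subgroup.derived_le_lower_central (G := ↥(Cfsg.pPrimeCore p G)) (hB p)
    have h' : (⊤ : Subgroup ↥(Cfsg.pPrimeCore p G)).lowerCentralSeries (hB p) = ⊥ := h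
    rw [h'] at hle
    exact hle

end Cfsg.Agent.Lib.Helper74.Alp
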